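import Cfsg.Agent.H884.Ex.Code

/-!
# S3510, EXC: certificates (helper884)
-/

set_option autoImplicit false
set_option maxRecDepth 100000

namespace Cfsg.Agent.H884.Ex

open Equiv Equiv.Perm

/-- words of the three-cycles -/
def W5 : List (List (List (List ℕ))) :=
  [[[[], [], [], []],
    [[], [], [0], [0, 1, 1]],
    [[], [0, 0], [], [0, 0, 1]],
    [[], [1, 0, 0], [1, 1, 0], []]],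
   [[[], [], [0, 0], [1, 0, 0]],
    [[], [], [], []],
    [[0], [], [], [1]],
    [[0, 1, 1], [], [1, 1], []]],
   [[[], [0], [], [1, 1, 0]],
    [[0, 0], [], [], [1, 1]],
    [[], [], [], []],
    [[0, 0, 1], [1], [], []]],
   [[[], [0, 1, 1], [0, 0, 1], []],
    [[1, 0, 0], [], [1], []],
    [[1, 1, 0], [1, 1], [], []],
    [[], [], [], []]]]

theorem chkG5 : chkG 5 W5 = true := by decide +kernel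

/-- words of the three-cycles -/
def W6 : List (List (List (List ℕ))) :=
  [[[[], [], [], [], []],
    [[], [], [0], [0, 1, 1, 1, 0, 1], [1, 1, 1, 1, 0, 1]],
    [[], [0, 0], [], [0, 1, 1, 1, 0, 1, 0, 0], [1, 1, 1, 1, 0, 1, 0, 0]],
    [[], [1, 1, 0, 0, 1, 0], [1, 1, 1, 0, 1, 0], [], [1, 0, 0]],
    [[], [1, 0, 1, 1, 1], [1, 0, 0, 1, 0, 1], [0, 1, 1, 1, 1], []]],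
   [[[], [], [0, 0], [1, 1, 0, 0, 1, 0], [1, 0, 1, 1, 1]],
    [[], [], [], [], []],
    [[0], [], [], [1, 0, 1, 1, 1, 1], [1, 0, 1, 1, 1, 0]],
    [[0, 1, 1, 1, 0, 1], [], [1, 1, 1, 0, 1], [], [0, 1, 0]],
    [[1, 1, 1, 1, 0, 1], [], [1, 1, 0, 1, 0, 1], [1, 1, 0, 1, 0, 0], []]],
   [[[], [0], [], [1, 1, 1, 0, 1, 0], [1, 0, 0, 1, 0, 1]],
    [[0, 0], [], [], [1, 1, 1, 0, 1], [1, 1, 0, 1, 0, 1]],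
    [[], [], [], [], []],
    [[0, 1, 1, 1, 0, 1, 0, 0], [1, 0, 1, 1, 1, 1], [], [], [0, 0, 1]],
    [[1, 1, 1, 1, 0, 1, 0, 0], [1, 0, 1, 1, 1, 0], [], [1, 1, 1, 1, 0], []]],
   [[[], [0, 1, 1, 1, 0, 1], [0, 1, 1, 1, 0, 1, 0, 0], [], [0, 1, 1, 1, 1]],
    [[1, 1, 0, 0, 1, 0], [], [1, 0, 1, 1, 1, 1], [], [1, 1, 0, 1, 0, 0]],
    [[1, 1, 1, 0, 1, 0], [1, 1, 1, 0, 1], [], [], [1, 1, 1, 1, 0]],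
    [[], [], [], [], []],
    [[1, 0, 0], [0, 1, 0], [0, 0, 1], [], []]],
   [[[], [1, 1, 1, 1, 0, 1], [1, 1, 1, 1, 0, 1, 0, 0], [1, 0, 0], []],
    [[1, 0, 1, 1, 1], [], [1, 0, 1, 1, 1, 0], [0, 1, 0], []],
    [[1, 0, 0, 1, 0, 1], [1, 1, 0, 1, 0, 1], [], [0, 0, 1], []],
    [[0, 1, 1, 1, 1], [1, 1, 0, 1, 0, 0], [1, 1, 1, 1, 0], [], []],
    [[], [], [], [], []]]]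

theorem chkG6 : chkG 6 W6 = true := by decide +kernel

/-- words of the three-cycles -/
def W8 : List (List (List (List ℕ))) :=
  [[[[], [], [], [], [], [], []],
    [[], [], [0], [0, 1, 1, 1, 0, 1, 1, 0, 1], [0, 1, 1, 0, 1, 0, 1, 1, 0, 1], [0, 1, 1, 0, 1, 1, 1, 0, 1], [1, 1, 1, 1, 1, 1, 0, 1]],
    [[], [0, 0], [], [0, 0, 1, 0, 1, 1, 1, 1, 1, 1], [0, 0, 1, 0, 1, 1, 1, 0, 1, 1, 0], [0, 1, 1, 0, 1, 1, 1, 0, 1, 0, 0], [1, 1, 1, 1, 1, 1, 0, 1, 0, 0]],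
    [[], [1, 0, 1, 0, 1, 1, 0, 1, 1], [1, 1, 1, 0, 1, 1, 0, 1, 0], [], [0, 1, 1, 0, 0, 1, 1, 0, 1, 1], [1, 1, 1, 1, 0, 1, 0, 1, 1, 1, 0, 0], [1, 1, 1, 1, 0, 0, 1, 1, 1, 1, 0, 0]],
    [[], [1, 0, 1, 1, 1, 0, 1, 1], [0, 1, 0, 1, 1, 1, 0, 1, 1], [0, 1, 1, 1, 1, 0, 1, 1], [], [1, 1, 1, 1, 0, 1, 0, 0, 1, 1], [1, 1, 1, 1, 0, 0, 1, 0, 1, 1]],
    [[], [1, 0, 1, 1, 0, 1, 0, 1, 1], [1, 1, 0, 1, 1, 1, 0, 1, 0], [0, 1, 1, 1, 0, 1, 0, 1, 1], [0, 1, 1, 0, 1, 0, 1, 0, 1, 1], [], [1, 1, 1, 1, 1, 0, 1, 1]],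
    [[], [1, 0, 1, 1, 0, 1, 1, 1], [0, 1, 0, 1, 1, 0, 1, 1, 1], [0, 1, 1, 1, 0, 1, 1, 1], [0, 1, 1, 0, 1, 0, 1, 1, 1], [0, 1, 1, 0, 1, 1, 1, 1], []]],
   [[[], [], [0, 0], [1, 0, 1, 0, 1, 1, 0, 1, 1], [1, 0, 1, 1, 1, 0, 1, 1], [1, 0, 1, 1, 0, 1, 0, 1, 1], [1, 0, 1, 1, 0, 1, 1, 1]],
    [[], [], [], [], [], [], []],
    [[0], [], [], [1, 0, 1, 1, 1, 1, 1, 1], [1, 0, 1, 1, 1, 0, 1, 1, 0], [1, 0, 1, 1, 0, 1, 0, 1, 1, 0], [1, 0, 1, 1, 0, 1, 1, 1, 0]],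
    [[0, 1, 1, 1, 0, 1, 1, 0, 1], [], [1, 1, 1, 0, 1, 1, 0, 1], [], [1, 0, 0, 1, 0, 1, 1, 1, 1, 1], [0, 1, 1, 1, 1, 0, 1, 0, 1, 1, 1, 0], [1, 1, 1, 1, 0, 0, 1, 1, 1, 0, 1, 0]],
    [[0, 1, 1, 0, 1, 0, 1, 1, 0, 1], [], [1, 1, 0, 1, 0, 1, 1, 0, 1], [1, 0, 1, 0, 1, 0, 1, 1, 0, 1], [], [1, 0, 1, 1, 0, 0, 1, 1, 0, 1], [1, 1, 1, 0, 1, 0, 1, 1, 1, 0, 1, 0]],
    [[0, 1, 1, 0, 1, 1, 1, 0, 1], [], [1, 1, 0, 1, 1, 1, 0, 1], [1, 0, 1, 0, 1, 1, 1, 0, 1], [1, 0, 1, 1, 1, 1, 0, 1], [], [1, 1, 1, 1, 1, 0, 1, 0, 0, 1]],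
    [[1, 1, 1, 1, 1, 1, 0, 1], [], [1, 1, 0, 1, 1, 0, 1, 0, 1], [1, 0, 1, 0, 1, 1, 0, 1, 0, 1], [1, 0, 1, 1, 1, 0, 1, 0, 1], [1, 0, 1, 1, 0, 1, 0, 1, 0, 1], []]],
   [[[], [0], [], [1, 1, 1, 0, 1, 1, 0, 1, 0], [0, 1, 0, 1, 1, 1, 0, 1, 1], [1, 1, 0, 1, 1, 1, 0, 1, 0], [0, 1, 0, 1, 1, 0, 1, 1, 1]],
    [[0, 0], [], [], [1, 1, 1, 0, 1, 1, 0, 1], [1, 1, 0, 1, 0, 1, 1, 0, 1], [1, 1, 0, 1, 1, 1, 0, 1], [1, 1, 0, 1, 1, 0, 1, 0, 1]],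
    [[], [], [], [], [], [], []],
    [[0, 0, 1, 0, 1, 1, 1, 1, 1, 1], [1, 0, 1, 1, 1, 1, 1, 1], [], [], [1, 1, 0, 1, 1, 1, 1, 1], [1, 1, 0, 1, 0, 0, 1, 1, 1, 1], [1, 1, 1, 1, 0, 0, 1, 1, 1, 0, 0, 1]],
    [[0, 0, 1, 0, 1, 1, 1, 0, 1, 1, 0], [1, 0, 1, 1, 1, 0, 1, 1, 0], [], [1, 1, 1, 1, 0, 1, 1, 0], [], [1, 1, 0, 0, 1, 0, 1, 1, 1, 1], [1, 1, 1, 0, 1, 0, 1, 1, 1, 0, 0, 1]],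
    [[0, 1, 1, 0, 1, 1, 1, 0, 1, 0, 0], [1, 0, 1, 1, 0, 1, 0, 1, 1, 0], [], [1, 1, 1, 0, 1, 0, 1, 1, 0], [1, 1, 0, 1, 0, 1, 0, 1, 1, 0], [], [1, 1, 0, 1, 1, 0, 0, 1, 1, 0]],
    [[1, 1, 1, 1, 1, 1, 0, 1, 0, 0], [1, 0, 1, 1, 0, 1, 1, 1, 0], [], [1, 1, 1, 0, 1, 1, 1, 0], [1, 1, 0, 1, 0, 1, 1, 1, 0], [1, 1, 0, 1, 1, 1, 1, 0], []]],
   [[[], [0, 1, 1, 1, 0, 1, 1, 0, 1], [0, 0, 1, 0, 1, 1, 1, 1, 1, 1], [], [0, 1, 1, 1, 1, 0, 1, 1], [0, 1, 1, 1, 0, 1, 0, 1, 1], [0, 1, 1, 1, 0, 1, 1, 1]],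
    [[1, 0, 1, 0, 1, 1, 0, 1, 1], [], [1, 0, 1, 1, 1, 1, 1, 1], [], [1, 0, 1, 0, 1, 0, 1, 1, 0, 1], [1, 0, 1, 0, 1, 1, 1, 0, 1], [1, 0, 1, 0, 1, 1, 0, 1, 0, 1]],
    [[1, 1, 1, 0, 1, 1, 0, 1, 0], [1, 1, 1, 0, 1, 1, 0, 1], [], [], [1, 1, 1, 1, 0, 1, 1, 0], [1, 1, 1, 0, 1, 0, 1, 1, 0], [1, 1, 1, 0, 1, 1, 1, 0]],
    [[], [], [], [], [], [], []],
    [[0, 1, 1, 0, 0, 1, 1, 0, 1, 1], [1, 0, 0, 1, 0, 1, 1, 1, 1, 1], [1, 1, 0, 1, 1, 1, 1, 1], [], [], [1, 1, 1, 0, 1, 1, 1, 1], [1, 1, 1, 0, 1, 0, 0, 1, 1, 1]],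
    [[1, 1, 1, 1, 0, 1, 0, 1, 1, 1, 0, 0], [0, 1, 1, 1, 1, 0, 1, 0, 1, 1, 1, 0], [1, 1, 0, 1, 0, 0, 1, 1, 1, 1], [], [1, 1, 1, 0, 0, 1, 1, 1, 1], [], [1, 1, 1, 0, 0, 1, 0, 1, 1, 1]],
    [[1, 1, 1, 1, 0, 0, 1, 1, 1, 1, 0, 0], [1, 1, 1, 1, 0, 0, 1, 1, 1, 0, 1, 0], [1, 1, 1, 1, 0, 0, 1, 1, 1, 0, 0, 1], [], [1, 1, 0, 0, 1, 1, 0, 0, 1, 1, 1, 0, 0, 1], [1, 0, 0, 1, 1, 1, 0, 0, 1, 1, 0, 0, 1, 1], []]],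
   [[[], [0, 1, 1, 0, 1, 0, 1, 1, 0, 1], [0, 0, 1, 0, 1, 1, 1, 0, 1, 1, 0], [0, 1, 1, 0, 0, 1, 1, 0, 1, 1], [], [0, 1, 1, 0, 1, 0, 1, 0, 1, 1], [0, 1, 1, 0, 1, 0, 1, 1, 1]],
    [[1, 0, 1, 1, 1, 0, 1, 1], [], [1, 0, 1, 1, 1, 0, 1, 1, 0], [1, 0, 0, 1, 0, 1, 1, 1, 1, 1], [], [1, 0, 1, 1, 1, 1, 0, 1], [1, 0, 1, 1, 1, 0, 1, 0, 1]],
    [[0, 1, 0, 1, 1, 1, 0, 1, 1], [1, 1, 0, 1, 0, 1, 1, 0, 1], [], [1, 1, 0, 1, 1, 1, 1, 1], [], [1, 1, 0, 1, 0, 1, 0, 1, 1, 0], [1, 1, 0, 1, 0, 1, 1, 1, 0]],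
    [[0, 1, 1, 1, 1, 0, 1, 1], [1, 0, 1, 0, 1, 0, 1, 1, 0, 1], [1, 1, 1, 1, 0, 1, 1, 0], [], [], [1, 1, 1, 0, 0, 1, 1, 1, 1], [1, 1, 0, 0, 1, 1, 0, 0, 1, 1, 1, 0, 0, 1]],
    [[], [], [], [], [], [], []],
    [[1, 1, 1, 1, 0, 1, 0, 0, 1, 1], [1, 0, 1, 1, 0, 0, 1, 1, 0, 1], [1, 1, 0, 0, 1, 0, 1, 1, 1, 1], [1, 1, 1, 0, 1, 1, 1, 1], [], [], [1, 1, 1, 1, 0, 1, 1, 1]],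
    [[1, 1, 1, 1, 0, 0, 1, 0, 1, 1], [1, 1, 1, 0, 1, 0, 1, 1, 1, 0, 1, 0], [1, 1, 1, 0, 1, 0, 1, 1, 1, 0, 0, 1], [1, 1, 1, 0, 1, 0, 0, 1, 1, 1], [], [1, 1, 1, 1, 0, 0, 1, 1, 1], []]],
   [[[], [0, 1, 1, 0, 1, 1, 1, 0, 1], [0, 1, 1, 0, 1, 1, 1, 0, 1, 0, 0], [1, 1, 1, 1, 0, 1, 0, 1, 1, 1, 0, 0], [1, 1, 1, 1, 0, 1, 0, 0, 1, 1], [], [0, 1, 1, 0, 1, 1, 1, 1]],
    [[1, 0, 1, 1, 0, 1, 0, 1, 1], [], [1, 0, 1, 1, 0, 1, 0, 1, 1, 0], [0, 1, 1, 1, 1, 0, 1, 0, 1, 1, 1, 0], [1, 0, 1, 1, 0, 0, 1, 1, 0, 1], [], [1, 0, 1, 1, 0, 1, 0, 1, 0, 1]],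
    [[1, 1, 0, 1, 1, 1, 0, 1, 0], [1, 1, 0, 1, 1, 1, 0, 1], [], [1, 1, 0, 1, 0, 0, 1, 1, 1, 1], [1, 1, 0, 0, 1, 0, 1, 1, 1, 1], [], [1, 1, 0, 1, 1, 1, 1, 0]],
    [[0, 1, 1, 1, 0, 1, 0, 1, 1], [1, 0, 1, 0, 1, 1, 1, 0, 1], [1, 1, 1, 0, 1, 0, 1, 1, 0], [], [1, 1, 1, 0, 1, 1, 1, 1], [], [1, 0, 0, 1, 1, 1, 0, 0, 1, 1, 0, 0, 1, 1]],
    [[0, 1, 1, 0, 1, 0, 1, 0, 1, 1], [1, 0, 1, 1, 1, 1, 0, 1], [1, 1, 0, 1, 0, 1, 0, 1, 1, 0], [1, 1, 1, 0, 0, 1, 1, 1, 1], [], [], [1, 1, 1, 1, 0, 0, 1, 1, 1]],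
    [[], [], [], [], [], [], []],
    [[1, 1, 1, 1, 1, 0, 1, 1], [1, 1, 1, 1, 1, 0, 1, 0, 0, 1], [1, 1, 0, 1, 1, 0, 0, 1, 1, 0], [1, 1, 1, 0, 0, 1, 0, 1, 1, 1], [1, 1, 1, 1, 0, 1, 1, 1], [], []]],
   [[[], [1, 1, 1, 1, 1, 1, 0, 1], [1, 1, 1, 1, 1, 1, 0, 1, 0, 0], [1, 1, 1, 1, 0, 0, 1, 1, 1, 1, 0, 0], [1, 1, 1, 1, 0, 0, 1, 0, 1, 1], [1, 1, 1, 1, 1, 0, 1, 1], []],
    [[1, 0, 1, 1, 0, 1, 1, 1], [], [1, 0, 1, 1, 0, 1, 1, 1, 0], [1, 1, 1, 1, 0, 0, 1, 1, 1, 0, 1, 0], [1, 1, 1, 0, 1, 0, 1, 1, 1, 0, 1, 0], [1, 1, 1, 1, 1, 0, 1, 0, 0, 1], []],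
    [[0, 1, 0, 1, 1, 0, 1, 1, 1], [1, 1, 0, 1, 1, 0, 1, 0, 1], [], [1, 1, 1, 1, 0, 0, 1, 1, 1, 0, 0, 1], [1, 1, 1, 0, 1, 0, 1, 1, 1, 0, 0, 1], [1, 1, 0, 1, 1, 0, 0, 1, 1, 0], []],
    [[0, 1, 1, 1, 0, 1, 1, 1], [1, 0, 1, 0, 1, 1, 0, 1, 0, 1], [1, 1, 1, 0, 1, 1, 1, 0], [], [1, 1, 1, 0, 1, 0, 0, 1, 1, 1], [1, 1, 1, 0, 0, 1, 0, 1, 1, 1], []],
    [[0, 1, 1, 0, 1, 0, 1, 1, 1], [1, 0, 1, 1, 1, 0, 1, 0, 1], [1, 1, 0, 1, 0, 1, 1, 1, 0], [1, 1, 0, 0, 1, 1, 0, 0, 1, 1, 1, 0, 0, 1], [], [1, 1, 1, 1, 0, 1, 1, 1], []],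
    [[0, 1, 1, 0, 1, 1, 1, 1], [1, 0, 1, 1, 0, 1, 0, 1, 0, 1], [1, 1, 0, 1, 1, 1, 1, 0], [1, 0, 0, 1, 1, 1, 0, 0, 1, 1, 0, 0, 1, 1], [1, 1, 1, 1, 0, 0, 1, 1, 1], [], []],
    [[], [], [], [], [], [], []]]]

theorem chkG8 : chkG 8 W8 = true := by decide +kernel

/-- representative -/
def g_t5_32 : Perm (Fin 5) := prodT [(0, 1), (1, 2), (3, 4)]

/-- certificate -/
def tr_t5_32 : Tr 5 :=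
  .node []
 (.node [(0, 1), (2, 4)]
 (.node [(0, 2), (1, 4)]
 (.leaf 0 [1, 2] [1, 0])
 (.leaf 1 [2, 2, 1, 0] [1, 0]))
 (.leaf 2 [0, 1, 0] [1, 1, 0, 1, 0]))
 (.node [(0, 3), (2, 4)]
 (.node [(1, 2), (2, 4)]
 (.leaf 4 [0, 0] [1, 0, 2])
 (.leaf 3 [0, 0] [2, 2, 0, 0]))
 (.leaf 0 [0, 0, 1, 0, 1, 1] [0, 0, 1, 0]))

theorem chk_t5_32 : chk 5 [0, 1, 2, 4, 3] [2, 0, 1, 3, 4] [] tr_t5_32 = true := by decide +kernel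

theorem core_t5_32 {H : Subgroup (Perm (Fin 5))}
    (hcov : ∀ t ∈ alternatingGroup (Fin 5), t⁻¹ * g_t5_32 ^ 3 * t ∈ H ∨ t⁻¹ * g_t5_32 ^ 2 * t ∈ H) :
    ∃ i : Fin 5, ∀ τ ∈ alternatingGroup (Fin 5), τ i = i → τ ∈ H :=
  core W5 chkG5 (xp := [0, 1, 2, 4, 3]) (xq := [2, 0, 1, 3, 4]) (by unfold Rep; decide +kernel) (by unfold Rep; decide +kernel)
    hcov tr_t5_32 chk_t5_32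

/-- representative -/
def g_t6_32 : Perm (Fin 6) := prodT [(0, 1), (1, 2), (3, 4)]

/-- certificate -/
def tr_t6_32 : Tr 6 :=
  .node []
 (.node [(0, 1), (2, 5), (5, 4), (4, 3)]
 (.node [(0, 1), (1, 2), (2, 3), (3, 4)]
 (.node [(0, 3), (3, 1), (1, 2), (2, 4)]
 (.leaf 1 [3, 2] [3, 2, 0, 1])
 (.leaf 0 [2, 3, 0] [2, 3, 1]))
 (.leaf 2 [0, 2, 2, 0] [0, 2, 2, 1]))
 (.node [(0, 5), (5, 3)]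
 (.leaf 2 [1] [1, 0, 2])
 (.leaf 5 [1, 2, 2] [0, 1, 0, 2, 2])))
 (.node [(0, 3), (3, 2), (2, 1), (1, 5)]
 (.node [(1, 3), (4, 5)]
 (.leaf 3 [0, 0] [0, 2, 0, 0, 1, 0, 0])
 (.leaf 5 [0, 0] [0, 0, 1, 2, 1]))
 (.leaf 4 [0, 0] [0, 0, 1, 1]))

theorem chk_t6_32 : chk 6 [0, 1, 2, 4, 3, 5] [2, 0, 1, 3, 4, 5] [] tr_t6_32 = true := by decide +kernel

theorem core_t6_32 {H : Subgroup (Perm (Fin 6))}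
    (hcov : ∀ t ∈ alternatingGroup (Fin 6), t⁻¹ * g_t6_32 ^ 3 * t ∈ H ∨ t⁻¹ * g_t6_32 ^ 2 * t ∈ H) :
    ∃ i : Fin 6, ∀ τ ∈ alternatingGroup (Fin 6), τ i = i → τ ∈ H :=
  core W6 chkG6 (xp := [0, 1, 2, 4, 3, 5]) (xq := [2, 0, 1, 3, 4, 5]) (by unfold Rep; decide +kernel) (by unfold Rep; decide +kernel)
    hcov tr_t6_32 chk_t6_32

/-- representative -/
def g_t8_32 : Perm (Fin 8) := prodT [(0, 1), (1, 2), (3, 4)]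

/-- certificate -/
def tr_t8_32 : Tr 8 :=
  .node []
 (.node [(1, 6), (6, 3), (2, 7), (7, 5)]
 (.node [(0, 2), (2, 5), (5, 6), (1, 3), (3, 4), (4, 7)]
 (.node [(1, 7), (7, 6), (6, 5), (5, 4), (4, 3), (3, 2)]
 (.node [(0, 1), (1, 7), (2, 3), (4, 5)]
 (.node [(0, 2), (2, 3), (3, 7), (7, 4), (4, 1), (1, 6)]
 (.leaf 0 [0, 3, 4, 3, 0, 2] [2, 0, 3, 4, 5, 2, 1, 0, 3, 4, 0, 3, 2, 1])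
 (.leaf 7 [2, 0, 5, 1, 3, 4, 3, 0, 2] [0, 3, 2, 0, 5, 4, 3, 0, 2]))
 (.leaf 2 [4, 2, 4, 4, 2] [2, 4, 4, 0, 1, 3]))
 (.node [(0, 6), (6, 3), (3, 2), (2, 5), (1, 7), (7, 4)]
 (.leaf 5 [2, 3, 2] [3, 2, 3, 0, 1, 4])
 (.leaf 7 [2, 3, 2] [3, 2, 3, 0, 1, 0, 4])))
 (.node [(0, 5), (5, 1), (1, 3), (4, 6)]
 (.node [(0, 4), (4, 6), (6, 5), (5, 2), (2, 3), (1, 7)]
 (.leaf 5 [4, 2, 3, 2, 2] [0, 1, 2, 2, 4, 2, 3, 2, 2])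
 (.leaf 2 [2, 0, 1, 3, 2, 2, 0] [2, 4, 2, 2, 3, 2, 2, 0]))
 (.leaf 1 [0, 3, 0, 3, 3, 2, 1, 2, 2, 0] [3, 1, 0, 3, 1, 2, 2, 0])))
 (.node [(0, 3), (1, 6), (6, 2), (2, 4), (4, 5), (5, 7)]
 (.node [(0, 6), (6, 3), (3, 4), (4, 5), (5, 2), (2, 7)]
 (.node [(0, 5), (5, 7), (7, 3), (3, 2), (2, 6), (6, 1)]
 (.leaf 1 [2, 1, 1, 2, 1] [1, 0, 4, 0, 3, 1, 2, 0])
 (.leaf 7 [2, 1, 4, 3, 1, 1] [1, 4, 1, 2, 1, 4, 1, 1, 0]))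
 (.leaf 6 [3, 1, 2, 1, 1, 3, 3, 2] [2, 1, 2, 1, 3, 2, 1, 3, 0]))
 (.node [(0, 7), (7, 4), (4, 6), (6, 5), (5, 1), (1, 3)]
 (.leaf 2 [3, 1, 2, 2, 1, 1, 2, 3] [2, 3, 2, 2, 1, 2, 1, 0])
 (.leaf 1 [3, 3, 1] [1, 2, 0, 3, 1, 0, 1]))))
 (.node [(0, 4), (4, 7), (7, 5), (5, 1), (2, 6), (6, 3)]
 (.node [(0, 7), (1, 4), (4, 2), (5, 6)]
 (.node [(0, 2), (2, 5), (1, 7), (7, 4)]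
 (.node [(0, 2), (2, 6), (6, 1), (1, 7), (7, 3), (3, 5)]
 (.leaf 5 [0, 0] [1, 0, 2, 3, 4, 1, 0, 2, 3, 0, 0, 1, 0])
 (.leaf 4 [0, 0] [0, 4, 4, 2, 3, 0, 2, 0, 0, 1, 0]))
 (.leaf 7 [0, 0] [1, 3, 0, 2, 0]))
 (.node [(0, 6), (2, 7), (7, 5), (3, 4)]
 (.leaf 5 [0, 0] [3, 0, 1, 0, 2, 1, 0, 2, 1])
 (.leaf 3 [0, 0] [3, 1, 3, 0, 2, 0, 2, 1])))
 (.node [(0, 2), (2, 7), (1, 5), (5, 3), (3, 6), (6, 4)]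
 (.node [(0, 7), (7, 4), (2, 6), (6, 5)]
 (.leaf 4 [0, 0] [0, 1, 1, 3, 1, 1, 2, 0])
 (.leaf 7 [0, 0] [2, 0, 3, 2, 3, 1, 0]))
 (.leaf 6 [0, 0] [1, 1, 0, 0, 2, 0, 2, 1, 0, 1, 0])))

theorem chk_t8_32 : chk 8 [0, 1, 2, 4, 3, 5, 6, 7] [2, 0, 1, 3, 4, 5, 6, 7] [] tr_t8_32 = true := by decide +kernel

theorem core_t8_32 {H : Subgroup (Perm (Fin 8))}
    (hcov : ∀ t ∈ alternatingGroup (Fin 8), t⁻¹ * g_t8_32 ^ 3 * t ∈ H ∨ t⁻¹ * g_t8_32 ^ 2 * t ∈ H) :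
    ∃ i : Fin 8, ∀ τ ∈ alternatingGroup (Fin 8), τ i = i → τ ∈ H :=
  core W8 chkG8 (xp := [0, 1, 2, 4, 3, 5, 6, 7]) (xq := [2, 0, 1, 3, 4, 5, 6, 7]) (by unfold Rep; decide +kernel) (by unfold Rep; decide +kernel)
    hcov tr_t8_32 chk_t8_32

/-- representative -/
def g_t8_322 : Perm (Fin 8) := prodT [(0, 1), (1, 2), (3, 4), (5, 6)]

/-- certificate -/
def tr_t8_322 : Tr 8 :=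
  .node []
 (.node [(0, 1), (1, 5), (5, 6), (2, 3), (3, 7), (7, 4)]
 (.node [(0, 7), (7, 2), (2, 5), (5, 4)]
 (.leaf 0 [2, 1, 0, 1, 0, 2] [2, 0, 2, 0, 1, 0, 2, 1])
 (.leaf 0 [0, 2, 1, 2, 2, 1, 2, 1, 0] [0, 2, 2, 0, 1, 0, 2, 2]))
 (.node [(0, 4), (4, 6), (6, 7), (7, 1), (1, 2), (2, 5)]
 (.node [(0, 4), (4, 5), (5, 2), (2, 6), (6, 7), (1, 3)]
 (.leaf 7 [3, 0, 3, 2, 0, 3] [0, 1, 3, 1, 1, 3, 1])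
 (.leaf 1 [1, 1, 2, 1, 2, 1] [1, 1, 0, 3, 2, 1, 1]))
 (.leaf 2 [2, 0, 1, 0, 2, 2] [0, 1, 0, 2, 0, 1, 0, 2, 0])))
 (.node [(0, 2), (2, 4), (4, 7), (7, 3), (1, 5), (5, 6)]
 (.node [(0, 6), (6, 4), (4, 2), (2, 3), (3, 5), (5, 1)]
 (.leaf 4 [0, 0] [1, 2, 1, 2, 1, 0, 0, 1, 2, 0, 0])
 (.node [(0, 2), (2, 5), (5, 7), (7, 4), (4, 6), (6, 3)]
 (.leaf 3 [0, 0] [3, 2, 1, 0, 0, 1])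
 (.leaf 6 [0, 0] [2, 1, 0, 0, 1, 3, 3, 0, 0])))
 (.node [(0, 4), (1, 2), (2, 7), (7, 5), (5, 3), (3, 6)]
 (.leaf 4 [0, 0] [1, 2, 1, 0, 0])
 (.node [(0, 7), (7, 1), (1, 4), (3, 5)]
 (.leaf 7 [0, 0] [0, 2, 3, 2, 0])
 (.leaf 5 [0, 0] [2, 3, 0, 1, 2, 3, 1, 0]))))

theorem chk_t8_322 : chk 8 [0, 1, 2, 4, 3, 6, 5, 7] [2, 0, 1, 3, 4, 5, 6, 7] [] tr_t8_322 = true := by decide +kernel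

theorem core_t8_322 {H : Subgroup (Perm (Fin 8))}
    (hcov : ∀ t ∈ alternatingGroup (Fin 8), t⁻¹ * g_t8_322 ^ 3 * t ∈ H ∨ t⁻¹ * g_t8_322 ^ 2 * t ∈ H) :
    ∃ i : Fin 8, ∀ τ ∈ alternatingGroup (Fin 8), τ i = i → τ ∈ H :=
  core W8 chkG8 (xp := [0, 1, 2, 4, 3, 6, 5, 7]) (xq := [2, 0, 1, 3, 4, 5, 6, 7]) (by unfold Rep; decide +kernel) (by unfold Rep; decide +kernel)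
    hcov tr_t8_322 chk_t8_322

/-- representative -/
def g_t8_332 : Perm (Fin 8) := prodT [(0, 1), (1, 2), (3, 4), (4, 5), (6, 7)]

/-- certificate -/
def tr_t8_332 : Tr 8 :=
  .node []
 (.node [(0, 5), (5, 1), (1, 4), (2, 3), (3, 6), (6, 7)]
 (.node [(0, 7), (7, 6), (6, 1), (1, 3), (3, 4), (2, 5)]
 (.node [(0, 1), (1, 2), (2, 7), (3, 4)]
 (.node [(0, 1), (1, 4), (4, 3), (3, 7), (2, 5), (5, 6)]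
 (.node [(0, 6), (6, 5), (5, 2), (2, 1), (1, 7), (7, 4)]
 (.leaf 4 [3, 0, 2, 5, 0, 3] [1, 3, 0, 2, 5, 4])
 (.leaf 1 [1, 3, 0, 2, 0, 1] [5, 4, 1, 0, 3, 2, 1]))
 (.leaf 5 [3, 4, 0, 3, 4, 4, 3] [4, 0, 3, 4, 1, 3, 2, 1]))
 (.leaf 2 [1, 3, 0, 3, 0, 3, 1] [1, 0, 2, 3, 2]))
 (.leaf 0 [2, 0, 2, 0, 2, 0, 2, 0] [2, 1, 0]))
 (.node [(0, 3), (1, 6), (6, 4), (2, 5)]
 (.leaf 3 [1, 0, 1, 0, 1, 0, 1, 0] [1, 1, 2, 0, 1, 1, 0, 1, 1, 0, 1])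
 (.leaf 0 [2, 0, 2, 1, 2, 0, 1, 0, 2, 0, 2] [1, 2, 2, 1, 2, 2, 0, 1, 2, 0])))
 (.node [(0, 1), (1, 4), (2, 7), (3, 6)]
 (.node [(0, 5), (5, 2), (2, 6), (6, 3), (3, 1), (1, 4)]
 (.leaf 6 [2, 0, 2, 0, 2, 0, 2] [1, 2, 1, 0, 0, 2])
 (.leaf 7 [2, 2, 0, 2, 2] [1, 2, 0, 1, 0, 0]))
 (.leaf 0 [0, 0, 1, 1, 0, 0, 1, 0, 0, 1, 1, 0, 1, 0, 1, 0, 1, 0, 0] [1, 0, 1, 1, 0, 1, 0, 1, 0, 1, 0, 1, 0, 1, 1, 0, 1, 0, 0, 1, 0]))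

theorem chk_t8_332 : chk 8 [0, 1, 2, 3, 4, 5, 7, 6] [2, 0, 1, 5, 3, 4, 6, 7] [] tr_t8_332 = true := by decide +kernel

theorem core_t8_332 {H : Subgroup (Perm (Fin 8))}
    (hcov : ∀ t ∈ alternatingGroup (Fin 8), t⁻¹ * g_t8_332 ^ 3 * t ∈ H ∨ t⁻¹ * g_t8_332 ^ 2 * t ∈ H) :
    ∃ i : Fin 8, ∀ τ ∈ alternatingGroup (Fin 8), τ i = i → τ ∈ H :=
  core W8 chkG8 (xp := [0, 1, 2, 3, 4, 5, 7, 6]) (xq := [2, 0, 1, 5, 3, 4, 6, 7]) (by unfold Rep; decide +kernel) (by unfold Rep; decide +kernel)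
    hcov tr_t8_332 chk_t8_332

/-- representative -/
def g_t8_6 : Perm (Fin 8) := prodT [(0, 1), (1, 2), (2, 3), (3, 4), (4, 5)]

/-- certificate -/
def tr_t8_6 : Tr 8 :=
  .node []
 (.node [(0, 4), (4, 2), (2, 5), (5, 6)]
 (.node [(1, 3), (3, 7), (7, 4), (2, 6)]
 (.leaf 0 [1, 2, 0, 1, 0, 1, 2, 0, 1, 2] [0, 1, 2, 1, 0, 2, 0, 2, 0, 1, 2, 1, 0, 2, 0, 1, 0, 1])
 (.leaf 0 [2, 2, 1, 2, 1, 2, 0, 2, 1, 2] [2, 1, 0, 2, 1, 0, 2, 0, 2, 0, 1, 0]))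
 (.leaf 7 [0, 1, 1, 0, 1, 0, 1, 1, 0, 1, 0, 1, 0, 1, 0, 1, 1, 0, 1, 1, 0, 1, 0] [0, 1, 0, 1, 0, 1, 1, 0, 1, 0, 1, 0, 1, 0, 1, 1, 0]))
 (.node [(0, 5), (5, 7), (7, 6), (6, 1), (2, 4), (4, 3)]
 (.leaf 7 [1, 0, 1, 0, 0, 1, 0, 0, 1, 0, 1, 0, 1, 0, 1, 0, 0, 1, 0, 1, 0, 0, 1] [1, 0, 1, 0, 0, 1, 0, 0, 1, 0, 1, 0, 1, 0, 0, 1, 0, 0, 1, 0, 1, 0, 1, 0, 1, 0, 1, 0])
 (.leaf 7 [1, 0, 1, 0, 1, 0, 1, 0] [1, 0, 1, 0, 1, 1, 0, 0, 1, 0, 1, 1, 0, 0, 1, 0]))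

theorem chk_t8_6 : chk 8 [3, 4, 5, 0, 1, 2, 6, 7] [2, 3, 4, 5, 0, 1, 6, 7] [] tr_t8_6 = true := by decide +kernel

theorem core_t8_6 {H : Subgroup (Perm (Fin 8))}
    (hcov : ∀ t ∈ alternatingGroup (Fin 8), t⁻¹ * g_t8_6 ^ 3 * t ∈ H ∨ t⁻¹ * g_t8_6 ^ 2 * t ∈ H) :
    ∃ i : Fin 8, ∀ τ ∈ alternatingGroup (Fin 8), τ i = i → τ ∈ H :=
  core W8 chkG8 (xp := [3, 4, 5, 0, 1, 2, 6, 7]) (xq := [2, 3, 4, 5, 0, 1, 6, 7]) (by unfold Rep; decide +kernel) (by unfold Rep; decide +kernel)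
    hcov tr_t8_6 chk_t8_6

/-- representative -/
def g_t8_62 : Perm (Fin 8) := prodT [(0, 1), (1, 2), (2, 3), (3, 4), (4, 5), (6, 7)]

/-- certificate -/
def tr_t8_62 : Tr 8 :=
  .node []
 (.node [(1, 4), (4, 3), (3, 6), (6, 2)]
 (.node [(0, 6), (1, 3), (3, 5), (5, 7), (7, 4), (4, 2)]
 (.node [(0, 4), (4, 2), (2, 5), (5, 6), (6, 1), (1, 3)]
 (.leaf 0 [3, 2, 0, 3, 2, 1, 3, 2, 0, 1, 0] [1, 2, 3, 0, 1, 3, 2, 0, 2, 0])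
 (.leaf 0 [2, 3, 0, 2, 1, 3] [1, 2, 0, 3, 3, 0, 3, 1]))
 (.leaf 0 [1, 0, 2, 0, 2, 2, 0, 2, 0, 1, 2, 0, 1, 0] [2, 2, 0, 2, 2, 0, 2, 1, 0, 1, 0]))
 (.node [(0, 2), (2, 5), (1, 7), (3, 6)]
 (.leaf 0 [0, 1, 2, 0, 1, 1, 0, 1, 2, 1] [0, 2, 1, 2, 0, 2, 0, 1, 0, 1, 0, 1, 2])
 (.leaf 0 [0, 1, 2, 2, 0, 1, 1, 2, 0, 2, 0, 1] [1, 1, 2, 1, 0, 2, 0, 2, 1, 1, 0, 1])))
 (.node [(0, 5), (5, 7), (7, 6), (6, 3), (1, 4), (4, 2)]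
 (.node [(0, 1), (1, 2), (2, 4), (4, 6), (6, 3), (3, 7)]
 (.leaf 0 [1, 0, 1, 2, 0, 0, 1, 2, 0, 1] [1, 2, 0, 2, 0, 0, 1, 2, 0, 0, 2])
 (.leaf 0 [2, 2, 1, 0, 2, 0, 0, 1, 2, 2] [2, 0, 1, 0, 1, 2, 0, 0, 1, 2, 0]))
 (.leaf 7 [0, 1, 0, 1, 1, 0, 1, 0, 1, 1, 0, 0, 1, 1, 0, 0] [0, 1, 1, 0, 0, 1, 1, 0, 1, 0, 0, 1, 1, 0]))

theorem chk_t8_62 : chk 8 [3, 4, 5, 0, 1, 2, 7, 6] [2, 3, 4, 5, 0, 1, 6, 7] [] tr_t8_62 = true := by decide +kernel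

theorem core_t8_62 {H : Subgroup (Perm (Fin 8))}
    (hcov : ∀ t ∈ alternatingGroup (Fin 8), t⁻¹ * g_t8_62 ^ 3 * t ∈ H ∨ t⁻¹ * g_t8_62 ^ 2 * t ∈ H) :
    ∃ i : Fin 8, ∀ τ ∈ alternatingGroup (Fin 8), τ i = i → τ ∈ H :=
  core W8 chkG8 (xp := [3, 4, 5, 0, 1, 2, 7, 6]) (xq := [2, 3, 4, 5, 0, 1, 6, 7]) (by unfold Rep; decide +kernel) (by unfold Rep; decide +kernel)
    hcov tr_t8_62 chk_t8_62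

/-- representative -/
def g_t8_52 : Perm (Fin 8) := prodT [(0, 1), (1, 2), (2, 3), (3, 4), (5, 6)]

/-- certificate -/
def tr_t8_52 : Tr 8 :=
  .node []
 (.node [(0, 3), (3, 2), (2, 1), (1, 7), (7, 4), (4, 6)]
 (.node [(0, 6), (6, 7), (7, 1), (2, 4), (4, 5), (5, 3)]
 (.node [(0, 2), (2, 4), (4, 7), (7, 1), (3, 6), (6, 5)]
 (.node [(0, 1), (1, 2), (2, 5), (5, 7), (3, 6), (6, 4)]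
 (.node [(0, 3), (3, 4), (4, 5), (5, 7), (7, 6), (1, 2)]
 (.leaf 1 [4, 2, 1, 0, 3, 0, 1, 2] [4, 3, 0, 1, 2, 5, 0, 3, 1, 0])
 (.leaf 7 [5, 5, 4, 3] [3, 2, 5, 5, 1, 0]))
 (.leaf 2 [2, 4, 2, 4, 4, 3, 2, 4] [4, 4, 3, 4, 1]))
 (.leaf 3 [3, 3, 2, 3, 1, 2, 3, 1] [1, 2, 3, 1, 3, 2, 1, 0]))
 (.leaf 0 [2, 1, 2, 0, 2, 2, 1, 2, 0, 2, 1, 2, 0] [2, 2, 0, 2, 2, 1, 2, 1, 0, 2, 2]))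
 (.node [(1, 6), (6, 4), (4, 3), (5, 7)]
 (.leaf 4 [1, 1, 1, 2, 1, 2, 1, 2, 1, 2] [1, 0, 1, 1, 1, 2, 1, 0, 1, 2, 1])
 (.leaf 1 [2, 1, 2, 2, 2, 1, 1] [1, 2, 0, 1, 1, 2, 2, 0])))
 (.node [(0, 6), (6, 3), (3, 2), (2, 5), (1, 7), (7, 4)]
 (.node [(1, 7), (7, 4), (4, 5), (5, 3)]
 (.node [(0, 4), (4, 6), (1, 2), (3, 7)]
 (.leaf 7 [0, 1, 0, 0, 1, 0] [0, 0, 0, 2, 3])
 (.leaf 5 [0, 1, 0, 0, 1, 0] [3, 1, 3, 0, 3, 2, 0]))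
 (.leaf 6 [0, 1, 0, 0, 1, 0] [1, 2, 0, 2, 0, 1]))
 (.leaf 0 [1, 0, 0, 1, 0, 1, 0, 0, 1, 0, 0, 0, 0] [1, 1, 1, 0, 1, 0, 0, 1, 0, 1, 0, 1, 0]))

theorem chk_t8_52 : chk 8 [0, 1, 2, 3, 4, 6, 5, 7] [2, 3, 4, 0, 1, 5, 6, 7] [] tr_t8_52 = true := by decide +kernel

theorem core_t8_52 {H : Subgroup (Perm (Fin 8))}
    (hcov : ∀ t ∈ alternatingGroup (Fin 8), t⁻¹ * g_t8_52 ^ 5 * t ∈ H ∨ t⁻¹ * g_t8_52 ^ 2 * t ∈ H) :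
    ∃ i : Fin 8, ∀ τ ∈ alternatingGroup (Fin 8), τ i = i → τ ∈ H :=
  core W8 chkG8 (xp := [0, 1, 2, 3, 4, 6, 5, 7]) (xq := [2, 3, 4, 0, 1, 5, 6, 7]) (by unfold Rep; decide +kernel) (by unfold Rep; decide +kernel)
    hcov tr_t8_52 chk_t8_52

/-- representative -/
def g_t8_53 : Perm (Fin 8) := prodT [(0, 1), (1, 2), (2, 3), (3, 4), (5, 6), (6, 7)]

/-- certificate -/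
def tr_t8_53 : Tr 8 :=
  .node []
 (.node [(0, 4), (2, 5), (5, 3), (6, 7)]
 (.node [(0, 2), (2, 5), (5, 6), (1, 3), (3, 4), (4, 7)]
 (.node [(0, 2), (2, 4), (4, 7), (7, 1), (3, 6), (6, 5)]
 (.node [(1, 7), (7, 3), (3, 2), (4, 5)]
 (.leaf 0 [1, 1, 4, 3, 3, 1] [1, 1, 4, 3, 2, 0])
 (.leaf 1 [1, 4, 0, 1, 0] [4, 4, 0, 0, 3, 3]))
 (.leaf 3 [1, 0, 3, 0, 0] [2, 3, 1, 1, 0]))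
 (.leaf 4 [2, 2, 2, 2, 1, 2] [2, 2, 2, 0, 2, 1, 2, 1]))
 (.leaf 2 [1, 0, 1, 0, 1, 1, 0, 1, 0, 1, 0, 1, 0] [1, 0, 1, 0, 1, 1, 0, 1, 0, 0, 1, 0, 1]))
 (.node [(0, 6), (6, 2), (2, 7), (7, 3), (3, 5), (5, 4)]
 (.node [(0, 3), (3, 7), (7, 4), (4, 1), (1, 6), (6, 5)]
 (.node [(0, 5), (5, 7), (7, 4), (4, 2), (1, 3), (3, 6)]
 (.leaf 7 [2, 1, 2, 2] [3, 2, 0, 3, 0])
 (.leaf 5 [2, 1, 2, 2] [0, 3, 3, 0, 2]))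
 (.leaf 6 [1, 0, 0, 0, 1, 0] [0, 1, 0, 2, 2, 2]))
 (.leaf 0 [0, 1, 1, 1, 0, 1, 0, 0, 0, 1, 1, 0, 0, 1] [1, 1, 0, 0, 1, 1, 0, 1, 1, 0, 1, 0, 0, 1, 0]))

theorem chk_t8_53 : chk 8 [0, 1, 2, 3, 4, 7, 5, 6] [3, 4, 0, 1, 2, 5, 6, 7] [] tr_t8_53 = true := by decide +kernel

theorem core_t8_53 {H : Subgroup (Perm (Fin 8))}
    (hcov : ∀ t ∈ alternatingGroup (Fin 8), t⁻¹ * g_t8_53 ^ 5 * t ∈ H ∨ t⁻¹ * g_t8_53 ^ 3 * t ∈ H) :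
    ∃ i : Fin 8, ∀ τ ∈ alternatingGroup (Fin 8), τ i = i → τ ∈ H :=
  core W8 chkG8 (xp := [0, 1, 2, 3, 4, 7, 5, 6]) (xq := [3, 4, 0, 1, 2, 5, 6, 7]) (by unfold Rep; decide +kernel) (by unfold Rep; decide +kernel)
    hcov tr_t8_53 chk_t8_53

/-- representative -/
def g_t8_43 : Perm (Fin 8) := prodT [(0, 1), (1, 2), (2, 3), (4, 5), (5, 6)]

/-- certificate -/
def tr_t8_43 : Tr 8 :=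
  .node []
 (.node [(0, 7), (7, 5), (5, 1), (1, 2), (2, 4), (3, 6)]
 (.node [(0, 1), (2, 6), (6, 5), (3, 4)]
 (.leaf 7 [1, 0, 1, 2, 1, 2, 0, 1, 0, 2, 1, 2] [1, 0, 2, 1, 0, 1, 2, 1, 2, 1, 0])
 (.leaf 7 [2, 0, 2, 0, 2, 2] [1, 2, 1, 0, 1, 2, 0]))
 (.node [(0, 4), (4, 2), (2, 7), (3, 6)]
 (.leaf 5 [1, 1, 0, 1, 1, 0, 1] [1, 0, 2, 1, 0, 1, 0, 2, 1])
 (.node [(0, 4), (4, 5), (5, 2), (2, 3), (3, 1), (1, 6)]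
 (.leaf 4 [2, 2, 0, 2, 0, 2] [1, 0, 2, 2, 3, 1])
 (.leaf 6 [2, 2, 0, 2, 0, 2] [1, 2, 3, 1, 2, 3]))))
 (.node [(0, 7), (7, 2), (2, 5), (5, 6), (1, 4), (4, 3)]
 (.node [(0, 4), (4, 7), (1, 2), (2, 5)]
 (.node [(0, 1), (1, 2), (2, 4), (4, 6), (6, 7), (7, 5)]
 (.leaf 2 [2, 1, 0, 1, 2, 3] [3, 1, 0, 3, 2, 1, 3])
 (.leaf 0 [1, 2, 3, 3, 2, 1] [0, 0, 1, 3, 3, 2]))
 (.leaf 1 [1, 0, 2, 0, 0, 1] [2, 1, 2, 2, 0, 2]))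
 (.node [(0, 5), (5, 3), (3, 4), (4, 6), (6, 1), (2, 7)]
 (.node [(0, 2), (2, 3), (3, 5), (5, 7), (1, 4), (4, 6)]
 (.leaf 3 [2, 3, 2, 1, 1] [2, 1, 0, 3, 0])
 (.leaf 0 [3, 3, 0, 0, 1, 0] [2, 1, 3, 0, 0, 1, 1]))
 (.leaf 7 [2, 2, 0, 0, 1, 0, 2] [2, 0, 0, 1, 0, 2, 0])))

theorem chk_t8_43 : chk 8 [2, 3, 0, 1, 4, 5, 6, 7] [0, 1, 2, 3, 5, 6, 4, 7] [] tr_t8_43 = true := by decide +kernel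

theorem core_t8_43 {H : Subgroup (Perm (Fin 8))}
    (hcov : ∀ t ∈ alternatingGroup (Fin 8), t⁻¹ * g_t8_43 ^ 6 * t ∈ H ∨ t⁻¹ * g_t8_43 ^ 4 * t ∈ H) :
    ∃ i : Fin 8, ∀ τ ∈ alternatingGroup (Fin 8), τ i = i → τ ∈ H :=
  core W8 chkG8 (xp := [2, 3, 0, 1, 4, 5, 6, 7]) (xq := [0, 1, 2, 3, 5, 6, 4, 7]) (by unfold Rep; decide +kernel) (by unfold Rep; decide +kernel)
    hcov tr_t8_43 chk_t8_43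

end Cfsg.Agent.H884.Ex
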