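import Mathlib

/-!
# S3510, EXC: elements of order five of `A₆` have at most two fixed points (helper884)
-/

set_option autoImplicit false
set_option maxRecDepth 100000

namespace Cfsg.Agent.H884.Ex

open Equiv Equiv.Perm
open scoped Pointwise

universe u v

/-- two elements of order 5 in a group of order not divisible by 25 -/
theorem exists_conj_five {K : Type u} [Group K] [Finite K] (h25 : ¬ 25 ∣ Nat.card K) {a b : K}
    (ha : orderOf a = 5) (hb : orderOf b = 5) : ∃ k : K, k * a * k⁻¹ ∈ Subgroup.zpowers b := by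
  have : Fact (Nat.Prime 5) := ⟨Nat.prime_five⟩
  have h5 : 5 ∣ Nat.card K := by rw [← ha]; exact orderOf_dvd_natCard a
  have hf : (Nat.card K).factorization 5 = 1 := by
    have h1 : 1 ≤ (Nat.card K).factorization 5 :=
      (Nat.prime_five.dvd_iff_one_le_factorization Nat.card_pos.ne').1 h5
    have h2 : ¬ 2 ≤ (Nat.card K).factorization 5 := by
      intro h
      apply h25
      exact (Nat.prime_five.pow_dvd_iff_le_factorization (k := 2) Nat.card_pos.ne').2 h
    omega
  let P : Sylow 5 K := Sylow.ofCard (Subgroup.zpowers a) (by rw [hf, Nat.card_zpowers, ha]; rfl)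
  let Q : Sylow 5 K := Sylow.ofCard (Subgroup.zpowers b) (by rw [hf, Nat.card_zpowers, hb]; rfl)
  obtain ⟨k, hk⟩ := MulAction.exists_smul_eq K P Q
  refine ⟨k, ?_⟩
  have h1 : MulAut.conj k • (P : Subgroup K) = Q := by
    rw [← hk]; rfl
  have h2 : k * a * k⁻¹ ∈ MulAut.conj k • (P : Subgroup K) := by
    rw [Subgroup.mem_pointwise_smul_iff_inv_smul_mem, ← map_inv]
    have : (MulAut.conj k⁻¹ • (k * a * k⁻¹) : K) = a := by
      change k⁻¹ * (k * a * k⁻¹) * k⁻¹⁻¹ = a
      group
    rw [this]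
    exact Subgroup.mem_zpowers a
  rw [h1] at h2
  exact h2

/-- the five cycle -/
def z5 : Perm (Fin 6) := swap 0 1 * swap 1 2 * swap 2 3 * swap 3 4

theorem z5_type : z5.cycleType = {5} := by decide +kernel

theorem card_norm : (Finset.univ.filter fun τ : Perm (Fin 6) => sign τ = 1 ∧ (τ * z5 * τ⁻¹ = z5 ∨ τ * z5 * τ⁻¹ = z5 ^ 2 ∨
    τ * z5 * τ⁻¹ = z5 ^ 3 ∨ τ * z5 * τ⁻¹ = z5 ^ 4)).card = 10 := by decide +kernel

theorem type_five {x : Perm (Fin 6)} (hx : orderOf x = 5) : x.cycleType = {5} := by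
  obtain ⟨k, hk⟩ := cycleType_prime_order (σ := x) (by rw [hx]; exact Nat.prime_five)
  have h6 := sum_cycleType x
  rw [hk, hx] at h6
  have h7 := Finset.card_le_univ x.support
  rw [← h6] at h7
  simp at h7
  have : k = 0 := by omega
  rw [hk, this, hx]
  rfl

theorem card_normSet (x : alternatingGroup (Fin 6)) (hx : orderOf x = 5) :
    Nat.card {n : alternatingGroup (Fin 6) // n * x * n⁻¹ ∈ Subgroup.zpowers x} ≤ 10 := by
  have ho : orderOf (x : Perm (Fin 6)) = 5 := by rw [Subgroup.orderOf_coe, hx]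
  have h1 : IsConj z5 (x : Perm (Fin 6)) := by
    rw [isConj_iff_cycleType_eq, z5_type, type_five ho]
  obtain ⟨ρ, hρ⟩ := isConj_iff.1 h1
  let A := Finset.univ.filter fun τ : Perm (Fin 6) => sign τ = 1 ∧ (τ * z5 * τ⁻¹ = z5 ∨ τ * z5 * τ⁻¹ = z5 ^ 2 ∨
    τ * z5 * τ⁻¹ = z5 ^ 3 ∨ τ * z5 * τ⁻¹ = z5 ^ 4)
  let f : {n : alternatingGroup (Fin 6) // n * x * n⁻¹ ∈ Subgroup.zpowers x} → A := fun n =>
    ⟨ρ⁻¹ * (n.1 : Perm (Fin 6)) * ρ, by
      rw [Finset.mem_filter]
      refine ⟨Finset.mem_univ _, ?_, ?_⟩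
      · rw [map_mul, map_mul, mem_alternatingGroup.1 n.1.2, map_inv, mul_one, inv_mul_cancel]
      · have h2 := n.2
        rw [← mem_powers_iff_mem_zpowers] at h2
        obtain ⟨k, hk⟩ := h2
        have h3 : (n.1 : Perm (Fin 6)) * x * (n.1 : Perm (Fin 6))⁻¹ = (x : Perm (Fin 6)) ^ (k % 5) := by
          have h4 := congrArg (Subtype.val) hk
          change ((x : Perm (Fin 6))) ^ k = (n.1 : Perm (Fin 6)) * x * (n.1 : Perm (Fin 6))⁻¹ at h4
          rw [← h4, ← ho, pow_mod_orderOf]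
        have h5 : (ρ⁻¹ * (n.1 : Perm (Fin 6)) * ρ) * z5 * (ρ⁻¹ * (n.1 : Perm (Fin 6)) * ρ)⁻¹ = z5 ^ (k % 5) := by
          have h6 : z5 ^ (k % 5) = ρ⁻¹ * (x : Perm (Fin 6)) ^ (k % 5) * ρ := by
            rw [← hρ, conj_pow]; group
          rw [h6, ← h3, ← hρ]
          group
        have h7 : k % 5 < 5 := Nat.mod_lt _ (by norm_num)
        rw [h5]
        have h8 : k % 5 ≠ 0 := by
          intro h0
          rw [h0, pow_zero] at h3
          have h9 : (x : Perm (Fin 6)) = 1 := by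
            have := congrArg (fun y => (n.1 : Perm (Fin 6))⁻¹ * y * n.1) h3
            simpa [mul_assoc] using this
          rw [h9, orderOf_one] at ho
          omega
        generalize k % 5 = j at h7 h8 ⊢
        interval_cases j
        · exact absurd rfl h8
        · left; rw [pow_one]
        · right; left; rfl
        · right; right; left; rfl
        · right; right; right; rfl⟩
  have hf : Function.Injective f := by
    intro a b hab
    have h2 := congrArg Subtype.val hab
    change ρ⁻¹ * (a.1 : Perm (Fin 6)) * ρ = ρ⁻¹ * (b.1 : Perm (Fin 6)) * ρ at h2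
    apply Subtype.ext
    apply Subtype.ext
    exact mul_left_cancel (mul_right_cancel h2)
  have h2 := Nat.card_le_card_of_injective f hf
  have h3 : Nat.card A = 10 := by
    rw [Nat.card_eq_fintype_card, Fintype.card_coe]
    exact card_norm
  rwa [h3] at h2

/-- **at most two fixed points** -/
theorem fix_le_two {T : Type u} [Group T] [Finite T] {Ω : Type v} [Finite Ω] [MulAction T Ω]
    [MulAction.IsPretransitive T Ω] (e : T ≃* alternatingGroup (Fin 6)) (c : T) (hc : orderOf c = 5) :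
    Nat.card {ω : Ω // c • ω = ω} ≤ 2 := by
  have hcT : Nat.card T = 360 := by
    rw [Nat.card_congr e.toEquiv]
    have h1 := two_mul_nat_card_alternatingGroup (α := Fin 6)
    rw [Nat.card_perm, Nat.card_eq_fintype_card (α := Fin 6), Fintype.card_fin] at h1
    have h2 : Nat.factorial 6 = 720 := by decide
    omega
  rcases isEmpty_or_nonempty {ω : Ω // c • ω = ω} with h | ⟨⟨ω, hω⟩⟩
  · rw [Nat.card_of_isEmpty]; norm_num
  have key : ∀ ω' : {ω : Ω // c • ω = ω}, ∃ n : T, n * c * n⁻¹ ∈ Subgroup.zpowers c ∧ n • ω = ω' := by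
    rintro ⟨ω', hω'⟩
    obtain ⟨t, ht⟩ := MulAction.exists_smul_eq T ω ω'
    let K := MulAction.stabilizer T ω
    have h25 : ¬ 25 ∣ Nat.card K := by
      intro h
      have h1 := h.trans (Subgroup.card_subgroup_dvd_card K)
      rw [hcT] at h1
      revert h1; norm_num
    have hb : t⁻¹ * c * t ∈ K := by
      rw [MulAction.mem_stabilizer_iff, mul_smul, mul_smul, ht, hω', ← ht, inv_smul_smul]
    have hcK : c ∈ K := hω
    have o1 : orderOf (⟨c, hcK⟩ : K) = 5 := (Subgroup.orderOf_coe (⟨c, hcK⟩ : K)).symm.trans hc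
    have o2 : orderOf (⟨t⁻¹ * c * t, hb⟩ : K) = 5 := by
      refine (Subgroup.orderOf_coe (⟨t⁻¹ * c * t, hb⟩ : K)).symm.trans ?_
      have : t⁻¹ * c * t = MulAut.conj t⁻¹ c := by rw [MulAut.conj_apply, inv_inv]
      change orderOf (t⁻¹ * c * t) = 5
      rw [this, MulEquiv.orderOf_eq]; exact hc
    obtain ⟨k, hk⟩ := exists_conj_five (K := K) h25 o1 o2
    refine ⟨t * k, ?_, ?_⟩
    · rw [Subgroup.mem_zpowers_iff] at hk ⊢
      obtain ⟨j, hj⟩ := hk
      refine ⟨j, ?_⟩
      have h1 := congrArg Subtype.val hj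
      change (t⁻¹ * c * t) ^ j = (k : T) * c * (k : T)⁻¹ at h1
      have h2 : (t⁻¹ * c * t) ^ j = t⁻¹ * c ^ j * t := by
        have := conj_zpow (a := t⁻¹) (b := c) (i := j)
        rwa [inv_inv] at this
      rw [h2] at h1
      calc c ^ j = t * (t⁻¹ * c ^ j * t) * t⁻¹ := by group
        _ = t * k * c * (t * k)⁻¹ := by rw [h1]; group
    · rw [mul_smul]
      have : (k : T) • ω = ω := k.2
      rw [this]
      exact ht
  choose n hn1 hn2 using key
  let f : {ω : Ω // c • ω = ω} × Fin 5 → {n : T // n * c * n⁻¹ ∈ Subgroup.zpowers c} := fun p =>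
    ⟨n p.1 * c ^ (p.2 : ℕ), by
      have : n p.1 * c ^ (p.2 : ℕ) * c * (n p.1 * c ^ (p.2 : ℕ))⁻¹ = n p.1 * c * (n p.1)⁻¹ := by group
      rw [this]; exact hn1 _⟩
  have hcp : ∀ j : ℕ, c ^ j • ω = ω := by
    intro j
    induction j with
    | zero => rw [pow_zero, one_smul]
    | succ j ih => rw [pow_succ, mul_smul, hω, ih]
  have hf : Function.Injective f := by
    rintro ⟨a, i⟩ ⟨b, j⟩ hab
    have h1 : n a * c ^ (i : ℕ) = n b * c ^ (j : ℕ) := congrArg Subtype.val hab
    have h2 := congrArg (fun x => x • ω) h1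
    simp only [mul_smul, hcp, hn2] at h2
    have h3 : a = b := Subtype.ext h2
    subst h3
    have h4 := mul_left_cancel h1
    have h5 : (i : ℕ) = j := by
      apply pow_injOn_Iio_orderOf _ _ h4
      · rw [Set.mem_Iio, hc]; exact i.isLt
      · rw [Set.mem_Iio, hc]; exact j.isLt
    rw [Fin.ext h5]
  have h1 := Nat.card_le_card_of_injective f hf
  rw [Nat.card_prod, Nat.card_eq_fintype_card (α := Fin 5), Fintype.card_fin] at h1
  have h2 : Nat.card {n : T // n * c * n⁻¹ ∈ Subgroup.zpowers c} ≤ 10 := by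
    have h3 := card_normSet (e c) (by rw [MulEquiv.orderOf_eq]; exact hc)
    let g : {n : T // n * c * n⁻¹ ∈ Subgroup.zpowers c} →
        {n : alternatingGroup (Fin 6) // n * e c * n⁻¹ ∈ Subgroup.zpowers (e c)} := fun p => ⟨e p.1, by
      have h4 := p.2
      rw [Subgroup.mem_zpowers_iff] at h4 ⊢
      obtain ⟨k, hk⟩ := h4
      exact ⟨k, by rw [← map_zpow, hk, map_mul, map_mul, map_inv]⟩⟩
    have hg : Function.Injective g := by
      intro a b hab
      exact Subtype.ext (e.injective (congrArg Subtype.val hab))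
    exact (Nat.card_le_card_of_injective g hg).trans h3
  omega

end Cfsg.Agent.H884.Ex
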